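import Mathlib.FieldTheory.PurelyInseparable.Basic
import Mathlib.FieldTheory.SeparableClosure
import Mathlib.RingTheory.Unramified.Field
import Mathlib.RingTheory.Etale.Field
import Mathlib.RingTheory.Artinian.Instances
import Mathlib.RingTheory.LocalRing.Length
import Mathlib.RingTheory.Localization.BaseChange
import Mathlib.RingTheory.Localization.LocalizationLocalization
import Mathlib.RingTheory.TensorProduct.Free
import Mathlib.LinearAlgebra.TensorProduct.RightExactness
import Mathlib.RingTheory.AlgebraicIndependent.TranscendenceBasis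
import Mathlib.FieldTheory.IntermediateField.Adjoin.Algebra
import Mathlib.RingTheory.Flat.Basic
import Mathlib.RingTheory.HopkinsLevitzki
import Mathlib.Order.KrullDimension

/-!
Lengths of localisations of `L ⊗ A` at minimal primes are powers of the exponential characteristic,
for a field extension `L/K` of finite type and a domain `A`.
-/

set_option autoImplicit false
set_option backward.isDefEq.respectTransparency false
set_option backward.isDefEq.respectTransparency.types false

universe u

open scoped TensorProduct nonZeroDivisors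

namespace Groth.L11.FieldTensor

/-- The length of a local ring which is free of prime power rank over a field is a prime power. -/
theorem length_eq_pow_of_finrank (M R : Type u) [Field M] [CommRing R] [IsLocalRing R] [Algebra M R]
    [Module.Finite M R] {p e : ℕ} (hp : p = 1 ∨ p.Prime) (h : Module.finrank M R = p ^ e) :
    ∃ n : ℕ, Module.length R R = (p ^ n : ℕ) := by
  haveI : Nontrivial R := inferInstance
  haveI : IsLocalHom (algebraMap M R) := inferInstance
  have h1 := IsLocalRing.length_restrictScalars M R R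
  rw [Module.length_eq_finrank, h] at h1
  haveI : IsArtinianRing R := IsArtinianRing.of_finite M R
  have hl : Module.length R R ≠ ⊤ := Module.length_ne_top
  have hd : Module.length (IsLocalRing.ResidueField M) (IsLocalRing.ResidueField R) ≠ ⊤ := by
    intro ht
    rw [ht] at h1
    have h0 : Module.length R R ≠ 0 := (Module.length_pos (R := R) (M := R)).ne'
    rw [ENat.mul_top h0] at h1
    exact ENat.natCast_ne_top _ h1
  obtain ⟨l, hl'⟩ := ENat.ne_top_iff_exists.1 hl
  obtain ⟨d, hd'⟩ := ENat.ne_top_iff_exists.1 hd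
  rw [← hl', ← hd', ← Nat.cast_mul, Nat.cast_inj] at h1
  rcases hp with rfl | hp
  · refine ⟨0, ?_⟩
    rw [one_pow] at h1
    rw [← hl', (Nat.eq_one_of_mul_eq_one_right h1.symm)]
    simp
  · obtain ⟨n, -, hn⟩ := (Nat.dvd_prime_pow hp).1 (Dvd.intro _ h1.symm)
    exact ⟨n, by rw [← hl', hn]⟩

/-- Isomorphic rings have equal length. -/
theorem length_ringEquiv {R S : Type u} [CommRing R] [CommRing S] (e : R ≃+* S) :
    Module.length R R = Module.length S S := by
  refine WithBot.coe_injective ?_
  rw [Module.coe_length, Module.coe_length]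
  exact (Order.krullDim_eq_of_orderIso e.idealComapOrderIso).symm

/-- Transport along an isomorphism. -/
theorem length_loc_of_ringEquiv {R S : Type u} [CommRing R] [CommRing S] (e : R ≃+* S) (p : ℕ) (q : Ideal S) [q.IsPrime]
    (h : ∀ (Q : Ideal R) [Q.IsPrime], (q ∈ minimalPrimes S → Q ∈ minimalPrimes R) →
      ∃ n : ℕ, Module.length (Localization.AtPrime Q) (Localization.AtPrime Q) = (p ^ n : ℕ)) :
    ∃ n : ℕ, Module.length (Localization.AtPrime q) (Localization.AtPrime q) = (p ^ n : ℕ) := by
  obtain ⟨n, hn⟩ := h (q.comap e.toRingHom) (fun hq => by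
    refine ⟨⟨inferInstance, bot_le⟩, fun J hJ hle => ?_⟩
    haveI := hJ.1
    have h' := hq.2 (y := J.comap e.symm.toRingHom) ⟨inferInstance, bot_le⟩
      (fun x hx => by
        have h1 : e (e.symm x) ∈ q := hle hx
        rwa [e.apply_symm_apply] at h1)
    intro x hx
    have h2 : e.symm (e x) ∈ J := h' (x := e x) hx
    rwa [e.symm_apply_apply] at h2)
  refine ⟨n, ?_⟩
  rw [← hn]
  exact (length_ringEquiv (IsLocalization.ringEquivOfRingEquiv (Localization.AtPrime (q.comap e.toRingHom))
    (Localization.AtPrime q) e (M := (q.comap e.toRingHom).primeCompl) (T := q.primeCompl) (by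
      ext x
      simp only [Submonoid.mem_map, Ideal.primeCompl, Ideal.mem_comap]
      constructor
      · rintro ⟨y, hy, rfl⟩
        exact hy
      · intro hx
        exact ⟨e.symm x, fun h => hx (by simpa using h), e.apply_symm_apply x⟩))).symm

section insep

variable {K L : Type u} [Field K] [Field L] [Algebra K L] (p : ℕ) [ExpChar K p]
  [IsPurelyInseparable K L]

/-- In `L ⊗ M` some `p`-power of every element comes from `M`. -/
theorem exists_pow_mem_range (M : Type u) [Field M] [Algebra K M] (r : L ⊗[K] M) :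
    ∃ (N : ℕ) (m : M), r ^ p ^ N = (1 : L) ⊗ₜ[K] m := by
  haveI : ExpChar M p := expChar_of_injective_ringHom (algebraMap K M).injective p
  haveI : Nontrivial (L ⊗[K] M) := inferInstance
  haveI : ExpChar (L ⊗[K] M) p := expChar_of_injective_ringHom
    (f := (Algebra.TensorProduct.includeRight : M →ₐ[K] L ⊗[K] M).toRingHom) (RingHom.injective _) p
  induction r with
  | zero => exact ⟨1, 0, by simp [zero_pow, (expChar_pos K p).ne']⟩
  | tmul l m =>
    obtain ⟨n, a, ha⟩ := IsPurelyInseparable.pow_mem K p l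
    refine ⟨n, algebraMap K M a * m ^ p ^ n, ?_⟩
    rw [Algebra.TensorProduct.tmul_pow, ← ha, Algebra.algebraMap_eq_smul_one, TensorProduct.smul_tmul,
      Algebra.smul_def (A := M), ← Algebra.smul_def]
  | add x y hx hy =>
    obtain ⟨n₁, a, ha⟩ := hx
    obtain ⟨n₂, b, hb⟩ := hy
    refine ⟨n₁ + n₂, a ^ p ^ n₂ + b ^ p ^ n₁, ?_⟩
    rw [add_pow_expChar_pow, TensorProduct.tmul_add]
    congr 1
    · rw [pow_add, pow_mul, ha, Algebra.TensorProduct.tmul_pow, one_pow]
    · rw [Nat.add_comm, pow_add, pow_mul, hb, Algebra.TensorProduct.tmul_pow, one_pow]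

include p in
theorem isLocalRing_tensor (M : Type u) [Field M] [Algebra K M] : IsLocalRing (L ⊗[K] M) := by
  haveI : Nontrivial (L ⊗[K] M) := inferInstance
  refine IsLocalRing.of_isUnit_or_isUnit_one_sub_self fun r => ?_
  obtain ⟨N, m, hm⟩ := exists_pow_mem_range p M r
  have hne : p ^ N ≠ 0 := pow_ne_zero _ (expChar_pos K p).ne'
  rcases eq_or_ne m 0 with rfl | h0
  · exact Or.inr (IsNilpotent.isUnit_one_sub ⟨p ^ N, by rw [hm, TensorProduct.tmul_zero]⟩)
  · refine Or.inl ((isUnit_pow_iff hne).1 ?_)
    rw [hm]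
    exact (IsUnit.mk0 m h0).map (Algebra.TensorProduct.includeRight : M →ₐ[K] L ⊗[K] M)

/-- The purely inseparable case. -/
theorem length_pow_insep [FiniteDimensional K L] (A : Type u) [CommRing A] [Algebra K A]
    [IsReduced A] [IsArtinianRing A] (q : Ideal (L ⊗[K] A)) [q.IsPrime] :
    ∃ n : ℕ, Module.length (Localization.AtPrime q) (Localization.AtPrime q) = (p ^ n : ℕ) := by
  classical
  let ι : A →ₐ[K] L ⊗[K] A := Algebra.TensorProduct.includeRight
  let P : Ideal A := q.comap ι.toRingHom
  haveI : P.IsPrime := inferInstance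
  haveI : P.IsMaximal := inferInstance
  letI : Field (A ⧸ P) := Ideal.Quotient.field P
  let g : A →ₐ[K] A ⧸ P := Ideal.Quotient.mkₐ K P
  have hg : Function.Surjective g := Ideal.Quotient.mk_surjective
  let π : L ⊗[K] A →ₐ[L] L ⊗[K] (A ⧸ P) := Algebra.TensorProduct.map (AlgHom.id L L) g
  have hπs : Function.Surjective π := by
    intro z
    induction z with
    | zero => exact ⟨0, map_zero _⟩
    | tmul l m => obtain ⟨a, rfl⟩ := hg m; exact ⟨l ⊗ₜ a, rfl⟩
    | add x y hx hy =>
      obtain ⟨a, rfl⟩ := hx; obtain ⟨b, rfl⟩ := hy; exact ⟨a + b, map_add _ _ _⟩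
  have hker : RingHom.ker π.toRingHom = P.map ι.toRingHom := by
    have h := Algebra.TensorProduct.lTensor_ker (R := K) (A := L) g hg
    rw [show RingHom.ker g = P from Ideal.mk_ker] at h
    exact h
  have hkq : RingHom.ker π.toRingHom ≤ q := by
    rw [hker]
    exact Ideal.map_comap_le
  haveI := isLocalRing_tensor (K := K) (L := L) p (A ⧸ P)
  have hunit : ∀ s, s ∉ q → IsUnit (π s) := by
    intro s hs
    obtain ⟨N, m, hm⟩ := exists_pow_mem_range p (A ⧸ P) (π s)
    have hne : p ^ N ≠ 0 := pow_ne_zero _ (expChar_pos K p).ne'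
    rcases eq_or_ne m 0 with rfl | h0
    · refine absurd (Ideal.IsPrime.mem_of_pow_mem ‹q.IsPrime› (p ^ N) (hkq ?_)) hs
      show π (s ^ p ^ N) = 0
      rw [map_pow, hm, TensorProduct.tmul_zero]
    · refine (isUnit_pow_iff hne).1 ?_
      rw [hm]
      exact (IsUnit.mk0 m h0).map (Algebra.TensorProduct.includeRight : (A ⧸ P) →ₐ[K] L ⊗[K] (A ⧸ P))
  -- a separating element
  obtain ⟨e, heP, he⟩ : ∃ e : A, e ∉ P ∧ ∀ x ∈ P, e * x = 0 := by
    haveI : Finite {I : Ideal A | I.IsPrime} := (IsArtinianRing.setOf_isPrime_finite A).to_subtype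
    let s : Finset (Ideal A) := (Set.toFinite {I : Ideal A | I.IsPrime}).toFinset.erase P
    have hlt : ∀ I ∈ s, ∃ x ∈ I, x ∉ P := by
      intro I hI
      obtain ⟨hne, hI'⟩ := Finset.mem_erase.1 hI
      have hIp : I.IsPrime := (Set.Finite.mem_toFinset _).1 hI'
      by_contra hcon
      push_neg at hcon
      haveI : I.IsMaximal := inferInstance
      exact hne (Ideal.IsMaximal.eq_of_le inferInstance (Ideal.IsPrime.ne_top ‹_›) hcon)
    choose! x hx hxP using hlt
    refine ⟨∏ I ∈ s, x I, fun h => ?_, fun y hy => ?_⟩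
    · obtain ⟨I, hI, hIx⟩ := (Ideal.IsPrime.prod_mem_iff).1 h
      exact hxP I hI hIx
    · refine IsReduced.eq_zero _ (nilpotent_iff_mem_prime.2 fun Q hQ => ?_)
      by_cases hQP : Q = P
      · exact Ideal.mul_mem_left _ _ (hQP ▸ hy)
      · refine Ideal.mul_mem_right _ _ ?_
        have hQs : Q ∈ s := Finset.mem_erase.2 ⟨hQP, (Set.Finite.mem_toFinset _).2 hQ⟩
        exact Ideal.prod_mem Q hQs (hx Q hQs)
  letI : Algebra (L ⊗[K] A) (L ⊗[K] (A ⧸ P)) := π.toRingHom.toAlgebra
  haveI : IsLocalization.AtPrime (L ⊗[K] (A ⧸ P)) q := by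
    refine ⟨fun s => hunit _ s.2, fun z => ?_, fun {x y} hxy => ?_⟩
    · obtain ⟨b, rfl⟩ := hπs z
      refine ⟨(b, 1), ?_⟩
      simp [RingHom.algebraMap_toAlgebra]
    · refine ⟨⟨ι e, heP⟩, ?_⟩
      have hmem : x - y ∈ RingHom.ker π.toRingHom := by
        rw [RingHom.mem_ker, map_sub, sub_eq_zero]
        exact hxy
      rw [hker] at hmem
      have : ∀ z ∈ P.map ι.toRingHom, ι e * z = 0 := by
        intro z hz
        refine Submodule.span_induction (p := fun z _ => ι e * z = 0) ?_ (mul_zero _) ?_ ?_ hz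
        · rintro _ ⟨a, ha, rfl⟩
          show ι e * ι a = 0
          rw [← map_mul, he a ha, map_zero]
        · intro a b _ _ ha hb
          rw [mul_add, ha, hb, add_zero]
        · intro a b _ hb
          rw [smul_eq_mul, mul_left_comm, hb, mul_zero]
      have := this _ hmem
      rwa [mul_sub, sub_eq_zero] at this
  let eq1 : Localization.AtPrime q ≃+* L ⊗[K] (A ⧸ P) :=
    (IsLocalization.algEquiv q.primeCompl (Localization.AtPrime q) (L ⊗[K] (A ⧸ P))).toRingEquiv
  let eq2 : L ⊗[K] (A ⧸ P) ≃+* (A ⧸ P) ⊗[K] L := (Algebra.TensorProduct.comm K L (A ⧸ P)).toRingEquiv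
  haveI : IsLocalRing ((A ⧸ P) ⊗[K] L) := eq2.isLocalRing
  obtain ⟨f, hf⟩ := IsPurelyInseparable.finrank_eq_pow K L p
  have hrank : Module.finrank (A ⧸ P) ((A ⧸ P) ⊗[K] L) = p ^ f := by
    rw [Module.finrank_baseChange, hf]
  have hp : p = 1 ∨ p.Prime := by
    cases ‹ExpChar K p› with
    | zero => exact Or.inl rfl
    | prime h => exact Or.inr h
  obtain ⟨n, hn⟩ := length_eq_pow_of_finrank (A ⧸ P) ((A ⧸ P) ⊗[K] L) hp hrank
  exact ⟨n, by rw [length_ringEquiv (eq1.trans eq2)]; exact hn⟩

end insep

/-- Separable followed by purely inseparable. -/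
theorem length_pow_tower (K E L F : Type u) [Field K] [Field E] [Field L] [Field F] [Algebra K E] [Algebra E L]
    [Algebra K L] [IsScalarTower K E L] [Algebra K F] [FiniteDimensional K E] [Algebra.IsSeparable K E]
    [FiniteDimensional E L] [IsPurelyInseparable E L] (p : ℕ) [ExpChar E p] (q : Ideal (L ⊗[K] F)) [q.IsPrime] :
    ∃ n : ℕ, Module.length (Localization.AtPrime q) (Localization.AtPrime q) = (p ^ n : ℕ) := by
  haveI : Algebra.FormallyEtale K E := Algebra.FormallyEtale.of_isSeparable K E
  let e₁ : (F ⊗[K] E) ≃+* (E ⊗[K] F) := (Algebra.TensorProduct.comm K F E).toRingEquiv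
  haveI : IsReduced (F ⊗[K] E) := Algebra.FormallyUnramified.isReduced_of_field F (F ⊗[K] E)
  haveI : IsArtinianRing (F ⊗[K] E) := IsArtinianRing.of_finite F (F ⊗[K] E)
  haveI : IsReduced (E ⊗[K] F) := isReduced_of_injective e₁.symm.toRingHom e₁.symm.injective
  haveI : IsArtinianRing (E ⊗[K] F) := e₁.surjective.isArtinianRing (f := e₁.toRingHom)
  exact length_loc_of_ringEquiv (R := L ⊗[E] (E ⊗[K] F)) (S := L ⊗[K] F)
    (Algebra.TensorProduct.cancelBaseChange K E E L F).toRingEquiv p q
    (fun Q _ _ => length_pow_insep (K := E) (L := L) p (E ⊗[K] F) Q)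

/-- The case of a field `A`. -/
theorem length_pow_field (K L F : Type u) [Field K] [Field L] [Field F] [Algebra K L] [Algebra K F]
    [FiniteDimensional K L] (p : ℕ) [ExpChar K p] (q : Ideal (L ⊗[K] F)) [q.IsPrime] :
    ∃ n : ℕ, Module.length (Localization.AtPrime q) (Localization.AtPrime q) = (p ^ n : ℕ) :=
  haveI : IsPurelyInseparable (separableClosure K L) L := separableClosure.isPurelyInseparable K L
  haveI : ExpChar (separableClosure K L) p :=
    expChar_of_injective_ringHom (algebraMap K (separableClosure K L)).injective p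
  length_pow_tower K (separableClosure K L) L F p q

/-- The case of a domain `A` and a minimal prime. -/
theorem length_pow_domain (K L A : Type u) [Field K] [Field L] [Algebra K L] [CommRing A] [IsDomain A]
    [Algebra K A] [FiniteDimensional K L] (p : ℕ) [ExpChar K p] (q : Ideal (L ⊗[K] A)) [q.IsPrime]
    (hq : q ∈ minimalPrimes (L ⊗[K] A)) :
    ∃ n : ℕ, Module.length (Localization.AtPrime q) (Localization.AtPrime q) = (p ^ n : ℕ) := by
  let F := FractionRing A
  let ι : A →ₐ[K] L ⊗[K] A := Algebra.TensorProduct.includeRight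
  let φ : L ⊗[K] A →ₐ[L] L ⊗[K] F :=
    Algebra.TensorProduct.map (AlgHom.id L L) (IsScalarTower.toAlgHom K A F)
  letI : Algebra (L ⊗[K] A) (L ⊗[K] F) := φ.toRingHom.toAlgebra
  haveI : IsScalarTower L (L ⊗[K] A) (L ⊗[K] F) := IsScalarTower.of_algebraMap_eq fun x => (φ.commutes x).symm
  haveI hloc : IsLocalization (A⁰.map ι) (L ⊗[K] F) := by
    refine IsLocalization.tensorProduct_tensorProduct_right K L A⁰ F ?_
    ext a
    exact Algebra.TensorProduct.map_tmul _ _ _ _
  have hdisj : Disjoint ((A⁰.map ι : Submonoid (L ⊗[K] A)) : Set (L ⊗[K] A)) q := by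
    rw [Set.disjoint_left]
    rintro _ ⟨a, ha, rfl⟩ haq
    refine notMem_nonZeroDivisors_of_mem_mem_minimalPrimes haq hq ?_
    rw [mem_nonZeroDivisors_iff_right]
    intro z hz
    have hinj : Function.Injective (LinearMap.lTensor L (LinearMap.mulRight K a)) :=
      Module.Flat.lTensor_preserves_injective_linearMap _
        fun x y h => mul_right_cancel₀ (nonZeroDivisors.ne_zero ha) h
    have hkey : ∀ w : L ⊗[K] A, LinearMap.lTensor L (LinearMap.mulRight K a) w = w * ι a := by
      intro w
      induction w with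
      | zero => simp
      | tmul l b => simp [ι, Algebra.TensorProduct.tmul_mul_tmul]
      | add x y hx hy => rw [map_add, hx, hy, add_mul]
    exact hinj (by rw [hkey, hz, map_zero])
  let Q : Ideal (L ⊗[K] F) := q.map (algebraMap _ _)
  haveI : Q.IsPrime := IsLocalization.isPrime_of_isPrime_disjoint (A⁰.map ι) _ q ‹_› hdisj
  have hcomap : Q.comap (algebraMap (L ⊗[K] A) (L ⊗[K] F)) = q :=
    IsLocalization.comap_map_of_isPrime_disjoint (A⁰.map ι) _ ‹_› hdisj
  haveI : IsLocalization.AtPrime (Localization.AtPrime Q) q := by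
    have h1 := IsLocalization.isLocalization_isLocalization_atPrime_isLocalization (A⁰.map ι)
      (Localization.AtPrime Q) Q
    simp only [IsLocalization.AtPrime, Ideal.primeCompl, hcomap] at h1 ⊢
    exact h1
  obtain ⟨n, hn⟩ := length_pow_field K L F p Q
  refine ⟨n, ?_⟩
  rw [length_ringEquiv (R := Localization.AtPrime q) (S := Localization.AtPrime Q)
    (IsLocalization.algEquiv q.primeCompl (Localization.AtPrime q) (Localization.AtPrime Q)).toRingEquiv]
  exact hn

/-- Over a purely transcendental subextension. -/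
theorem length_pow_pure (k K L F : Type u) [Field k] [Field K] [Field L] [Field F] [Algebra k K] [Algebra k L]
    [Algebra k F] [Algebra F L] [IsScalarTower k F L] [Module.Finite F L] {σ : Type u}
    [Algebra (MvPolynomial σ k) F] [IsScalarTower k (MvPolynomial σ k) F] [IsFractionRing (MvPolynomial σ k) F]
    (p : ℕ) [ExpChar F p] (q : Ideal (K ⊗[k] L)) [q.IsPrime] (hq : q ∈ minimalPrimes (K ⊗[k] L)) :
    ∃ n : ℕ, Module.length (Localization.AtPrime q) (Localization.AtPrime q) = (p ^ n : ℕ) := by
  let P := MvPolynomial σ k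
  -- the base change of `F` is a domain
  haveI : IsDomain (K ⊗[k] P) :=
    MulEquiv.isDomain (MvPolynomial σ K) (MvPolynomial.algebraTensorAlgEquiv k K).toMulEquiv
  let ι : P →ₐ[k] K ⊗[k] P := Algebra.TensorProduct.includeRight
  let ψ : K ⊗[k] P →ₐ[K] K ⊗[k] F :=
    Algebra.TensorProduct.map (AlgHom.id K K) (IsScalarTower.toAlgHom k P F)
  letI : Algebra (K ⊗[k] P) (K ⊗[k] F) := RingHom.toAlgebra (R := K ⊗[k] P) (S := K ⊗[k] F) ψ.toRingHom
  haveI : IsScalarTower K (K ⊗[k] P) (K ⊗[k] F) := IsScalarTower.of_algebraMap_eq fun x => (ψ.commutes x).symm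
  haveI : IsLocalization (P⁰.map ι) (K ⊗[k] F) := by
    refine IsLocalization.tensorProduct_tensorProduct_right k K P⁰ F ?_
    refine RingHom.ext fun a => ?_
    exact Algebra.TensorProduct.map_tmul _ _ _ _
  haveI : IsDomain (K ⊗[k] F) := by
    refine IsLocalization.isDomain_of_le_nonZeroDivisors (K ⊗[k] F) (M := P⁰.map ι) ?_
    rintro _ ⟨a, ha, rfl⟩
    refine mem_nonZeroDivisors_of_ne_zero fun h0 => nonZeroDivisors.ne_zero ha ?_
    exact Algebra.TensorProduct.includeRight_injective (algebraMap k K).injective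
      (by rw [map_zero]; exact h0)
  haveI : IsDomain (F ⊗[k] K) :=
    MulEquiv.isDomain (K ⊗[k] F) (Algebra.TensorProduct.comm k F K).toMulEquiv
  exact length_loc_of_ringEquiv (R := L ⊗[F] (F ⊗[k] K)) (S := K ⊗[k] L)
    ((Algebra.TensorProduct.cancelBaseChange k F F L K).toRingEquiv.trans
      (Algebra.TensorProduct.comm k L K).toRingEquiv) p q
    (fun Q _ hQ => length_pow_domain F L (F ⊗[k] K) p Q (hQ hq))


/-- Stacks 02R0-type statement: multiplicities of components of a base change. -/
theorem length_pow_fg (k K L : Type u) [Field k] [Field K] [Field L] [Algebra k K] [Algebra k L]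
    (hL : (⊤ : IntermediateField k L).FG) (p : ℕ) [ExpChar k p] (q : Ideal (K ⊗[k] L)) [q.IsPrime]
    (hq : q ∈ minimalPrimes (K ⊗[k] L)) :
    ∃ n : ℕ, Module.length (Localization.AtPrime q) (Localization.AtPrime q) = (p ^ n : ℕ) := by
  classical
  obtain ⟨S, hS⟩ := hL
  have halg : Algebra.IsAlgebraic (Algebra.adjoin k (S : Set L)) L := by
    constructor
    intro x
    have hx : x ∈ IntermediateField.adjoin k (S : Set L) := hS ▸ IntermediateField.mem_top
    obtain ⟨r, hr, w, hw, rfl⟩ := IntermediateField.mem_adjoin_iff_div.1 hx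
    rw [div_eq_mul_inv]
    exact (isAlgebraic_algebraMap (A := L) (⟨r, hr⟩ : Algebra.adjoin k (S : Set L))).mul
      ((isAlgebraic_algebraMap (A := L) (⟨w, hw⟩ : Algebra.adjoin k (S : Set L))).inv)
  obtain ⟨t, htS, ht⟩ := exists_isTranscendenceBasis_subset (R := k) (S : Set L)
  let F := IntermediateField.adjoin k t
  haveI : Algebra.IsAlgebraic F L := by
    have := ht.isAlgebraic_field
    rwa [Subtype.range_coe] at this
  haveI : Algebra.EssFiniteType k L := IntermediateField.fg_top_iff.1 ⟨S, hS⟩
  haveI : Algebra.EssFiniteType F L := Algebra.EssFiniteType.of_comp k F L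
  haveI : Module.Finite F L := Algebra.finite_of_essFiniteType_of_isAlgebraic
  haveI : ExpChar F p := expChar_of_injective_ringHom (algebraMap k F).injective p
  -- `F` is a fraction field of a polynomial ring
  let P := MvPolynomial t k
  let φ : P →ₐ[k] F := MvPolynomial.aeval fun x : t => (⟨_, IntermediateField.subset_adjoin k t x.2⟩ : F)
  have hφ : ∀ r, ((φ r : F) : L) = MvPolynomial.aeval (fun x : t => (x : L)) r := fun r =>
    AlgHom.congr_fun (MvPolynomial.comp_aeval (fun x : t => (⟨_, IntermediateField.subset_adjoin k t x.2⟩ : F)) F.val) r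
  letI : Algebra P F := φ.toRingHom.toAlgebra
  haveI : IsScalarTower k P F := IsScalarTower.of_algebraMap_eq fun x => (φ.commutes x).symm
  have hinj : Function.Injective φ := fun a b hab => by
    have h1 := congrArg (fun z : F => (z : L)) hab
    simp only [hφ] at h1
    exact ht.1 h1
  haveI : FaithfulSMul P F := (faithfulSMul_iff_algebraMap_injective _ _).mpr hinj
  haveI : IsFractionRing P F := by
    refine IsFractionRing.of_field _ _ fun z => ?_
    have hz : (z : L) ∈ IntermediateField.adjoin k (Set.range fun x : t => (x : L)) := by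
      rw [Subtype.range_coe]; exact z.2
    obtain ⟨r, w, hrw⟩ := (IntermediateField.mem_adjoin_range_iff _ _ _).mp hz
    refine ⟨r, w, Subtype.ext ?_⟩
    show (z : L) = ((φ r : F) : L) / ((φ w : F) : L)
    rw [hφ, hφ, hrw]
  exact length_pow_pure k K L F (σ := t) p q hq

end Groth.L11.FieldTensor
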